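import Groth.Agent.Lib.DeRhamAlg.BaseChange
import Mathlib.RingTheory.Kaehler.Basic
import Mathlib.RingTheory.Kaehler.TensorProduct
import Mathlib.RingTheory.AdjoinRoot
import Mathlib.Algebra.TrivSqZeroExt.Basic

/-! The trace on differential forms along `R → R[x]/(xᵖ - a)` in characteristic `p`. -/

universe u

namespace Groth.Agent.PthRootTrace

open Polynomial TensorProduct exteriorPower KaehlerDifferential
open Groth.Agent.Lib.DeRhamAlg.Basic

set_option maxHeartbeats 1000000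

section generic

variable {S : Type u} [CommRing S] {M : Type u} [AddCommGroup M] [Module S M] (d : M)

/-- The projection `(η, c) ↦ η`. -/
noncomputable def θ₀ : M × S →ₗ[S] M := LinearMap.fst S M S

/-- The map `(η, c) ↦ η + c da`. -/
noncomputable def θ₁ : M × S →ₗ[S] M :=
  LinearMap.fst S M S + (LinearMap.snd S M S).smulRight d

lemma wedge_da_congr {t : ℕ} (y : ↥(⋀[S]^t (M × S))) :
    wedge (d) t (exteriorPower.map t (θ₁ d) y) =
      wedge (d) t (exteriorPower.map t (θ₀) y) := by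
  match t with
  | 0 =>
    congr 1
  | t + 1 =>
    rw [← sub_eq_zero, ← map_sub]
    let q := (Submodule.span S {d}).mkQ
    have hq : ∀ x : M × S, q (θ₁ d x) = q (θ₀ x) := fun x => by
      simp only [θ₁, θ₀, LinearMap.add_apply, LinearMap.smulRight_apply, map_add, map_smul]
      rw [show q (d) = 0 from (Submodule.Quotient.mk_eq_zero _).2
        (Submodule.mem_span_singleton_self _), smul_zero, add_zero]
    have h0 : exteriorPower.map (t + 1) q (exteriorPower.map (t + 1) (θ₁ d) y -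
        exteriorPower.map (t + 1) (θ₀) y) = 0 := by
      rw [map_sub, sub_eq_zero]
      refine linearMap_ext (f := exteriorPower.map (t + 1) q ∘ₗ exteriorPower.map (t + 1) _)
        (g := exteriorPower.map (t + 1) q ∘ₗ exteriorPower.map (t + 1) _) (fun v => ?_) y
      simp only [LinearMap.comp_apply, exteriorPower.map_apply_ιMulti]
      congr 1
      funext i; exact hq (v i)
    have hmem := mem_span_of_map_eq_zero q (Submodule.mkQ_surjective _) _ h0
    generalize exteriorPower.map (t + 1) (θ₁ d) y -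
        exteriorPower.map (t + 1) (θ₀) y = z at hmem
    induction hmem using Submodule.span_induction with
    | mem z hz =>
      obtain ⟨ω, w, hω, rfl⟩ := hz
      obtain ⟨c, rfl⟩ := Submodule.mem_span_singleton.1 ((Submodule.Quotient.mk_eq_zero _).1 hω)
      rw [wedge_smul, map_smul, wedge_self, smul_zero]
    | zero => exact map_zero _
    | add x y _ _ hx hy => rw [map_add, hx, hy, add_zero]
    | smul c x _ hx => rw [map_smul, hx, smul_zero]

/-- The alternating difference. -/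
noncomputable def Φ (t : ℕ) : ↥(⋀[S]^(t + 1) (M × S)) →ₗ[S] ↥(⋀[S]^(t + 1) M) :=
  exteriorPower.map (t + 1) (θ₁ d) - exteriorPower.map (t + 1) (θ₀)

lemma Φ_ker (t : ℕ) : LinearMap.ker (exteriorPower.map (t + 1) (Submodule.span S {((d, 0) : M × S)}).mkQ) ≤
    LinearMap.ker (Φ d t) := by
  intro x hx
  have hmem := mem_span_of_map_eq_zero _ (Submodule.mkQ_surjective _) x hx
  refine (Submodule.span_le.2 ?_) hmem
  rintro _ ⟨ω, w, hω, rfl⟩
  obtain ⟨c, rfl⟩ := Submodule.mem_span_singleton.1 ((Submodule.Quotient.mk_eq_zero _).1 hω)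
  show Φ d t _ = 0
  rw [Φ, LinearMap.sub_apply, map_wedge, map_wedge, map_smul, map_smul, wedge_smul, wedge_smul]
  have e1 : θ₁ d (d, (0 : S)) = d := by simp [θ₁]
  have e0 : θ₀ (S := S) (d, (0 : S)) = d := rfl
  rw [e1, e0, wedge_da_congr, sub_self]

lemma exists_Φ' (t : ℕ) :
    ∃ F : ↥(⋀[S]^(t + 1) ((M × S) ⧸ Submodule.span S {((d, 0) : M × S)})) →ₗ[S] ↥(⋀[S]^(t + 1) M),
      ∀ v : Fin (t + 1) → M × S,
        F (ιMulti S (t + 1) ((Submodule.span S {((d, 0) : M × S)}).mkQ ∘ v)) =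
          ιMulti S (t + 1) (θ₁ d ∘ v) - ιMulti S (t + 1) (θ₀ ∘ v) := by
  set π := (Submodule.span S {((d, 0) : M × S)}).mkQ
  have hπ : Function.Surjective (exteriorPower.map (t + 1) π) :=
    exteriorPower.map_surjective (Submodule.mkQ_surjective _)
  refine ⟨(Submodule.liftQ _ (Φ d t) (Φ_ker d t)).comp
    ((exteriorPower.map (t + 1) π).quotKerEquivOfSurjective hπ).symm.toLinearMap, fun v => ?_⟩
  rw [← exteriorPower.map_apply_ιMulti π v, LinearMap.comp_apply, LinearEquiv.coe_coe,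
    show exteriorPower.map (t + 1) π (ιMulti S (t + 1) v) =
      (exteriorPower.map (t + 1) π).quotKerEquivOfSurjective hπ (Submodule.Quotient.mk
        (ιMulti S (t + 1) v)) from rfl, LinearEquiv.symm_apply_apply, Submodule.liftQ_apply,
    Φ, LinearMap.sub_apply, exteriorPower.map_apply_ιMulti, exteriorPower.map_apply_ιMulti]

end generic

theorem exists_trace_aux {R S M Om : Type u} [CommRing R] [CommRing S] [Algebra R S]
    [AddCommGroup M] [Module R M] [AddCommGroup Om] [Module S Om]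
    (d₀ : M) (e : Om) (μ : M → Om) (cf : S →ₗ[R] R) (t : ℕ)
    (G : Om →ₗ[S] ((S ⊗[R] M) × S) ⧸ Submodule.span S {((1 ⊗ₜ d₀, 0) : (S ⊗[R] M) × S)})
    (hGx : G e = (Submodule.span S {((1 ⊗ₜ d₀, 0) : (S ⊗[R] M) × S)}).mkQ (0, 1))
    (hGη : ∀ η, G (μ η) =
      (Submodule.span S {((1 ⊗ₜ d₀, 0) : (S ⊗[R] M) × S)}).mkQ (1 ⊗ₜ η, 0)) :
    ∃ Tr : (⋀[S]^(t + 1) Om) →+ (⋀[R]^(t + 1) M),
      (∀ (r : R) (ω : ⋀[S]^(t + 1) Om), Tr (algebraMap R S r • ω) = r • Tr ω) ∧
      (∀ (η : Fin t → M) (x : S),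
        Tr (ιMulti S (t + 1) (Fin.snoc (fun j => μ (η j)) (x • e))) =
          cf x • ιMulti R (t + 1) (Fin.snoc η d₀)) ∧
      (∀ (s : S) (η : Fin (t + 1) → M), Tr (s • ιMulti S (t + 1) (fun j => μ (η j))) = 0) := by
  obtain ⟨Φ', hΦ'⟩ := exists_Φ' (S := S) (M := S ⊗[R] M) ((1 : S) ⊗ₜ[R] d₀) t
  set π := (Submodule.span S {((1 ⊗ₜ d₀, 0) : (S ⊗[R] M) × S)}).mkQ with hπ
  have hbc := Groth.Agent.Lib.DeRhamAlg.BaseChange.isBaseChange_semimap
    (TensorProduct.mk R S M 1) (TensorProduct.isBaseChange R M S) (t + 1)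
  let F : ↥(⋀[S]^(t + 1) Om) →ₗ[S] S ⊗[R] ↥(⋀[R]^(t + 1) M) :=
    hbc.equiv.symm.toLinearMap.comp (Φ'.comp (exteriorPower.map (t + 1) G))
  let L : S ⊗[R] ↥(⋀[R]^(t + 1) M) →ₗ[R] ↥(⋀[R]^(t + 1) M) :=
    (TensorProduct.lid R _).toLinearMap.comp (LinearMap.rTensor _ cf)
  refine ⟨(L.toAddMonoidHom).comp F.toAddMonoidHom, ?_, ?_, ?_⟩
  · intro r ω
    show L (F (algebraMap R S r • ω)) = r • L (F ω)
    rw [map_smul, algebraMap_smul, map_smul]
  · intro η x
    show L (F _) = _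
    let v : Fin (t + 1) → (S ⊗[R] M) × S :=
      Fin.snoc (fun j => (1 ⊗ₜ η j, 0)) (x • ((0 : S ⊗[R] M), (1 : S)))
    have he : G ∘ Fin.snoc (fun j => μ (η j)) (x • e) = π ∘ v := by
      funext j
      refine Fin.lastCases ?_ (fun j => ?_) j
      · simp only [Function.comp_apply, v, Fin.snoc_last, map_smul, hGx]
      · simp only [Function.comp_apply, v, Fin.snoc_castSucc, hGη]
    simp only [F, LinearMap.comp_apply, LinearEquiv.coe_coe, exteriorPower.map_apply_ιMulti]
    rw [he, hΦ']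
    have z0 : ιMulti S (t + 1) (θ₀ (S := S) (M := S ⊗[R] M) ∘ v) = (0 : ↥(⋀[S]^(t + 1) (S ⊗[R] M))) :=
      (ιMulti S (t + 1)).map_coord_zero (Fin.last t) (by simp [v, θ₀])
    have z1 : ιMulti S (t + 1) (θ₁ ((1 : S) ⊗ₜ[R] d₀) ∘ v) = x • semimap (B := S)
        (TensorProduct.mk R S M 1) (t + 1) (ιMulti R (t + 1) (Fin.snoc η d₀)) := by
      rw [semimap_ιMulti]
      have : θ₁ ((1 : S) ⊗ₜ[R] d₀) ∘ v = Function.update
          (TensorProduct.mk R S M 1 ∘ Fin.snoc η d₀) (Fin.last t)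
          (x • ((1 : S) ⊗ₜ[R] d₀)) := by
        funext j
        refine Fin.lastCases ?_ (fun j => ?_) j
        · simp [v, θ₁]
        · simp [v, θ₁, Fin.snoc_castSucc, (Fin.castSucc_lt_last j).ne]
      rw [this, AlternatingMap.map_update_smul]
      congr 2
      funext j
      refine Fin.lastCases ?_ (fun j => ?_) j
      · simp
      · simp [(Fin.castSucc_lt_last j).ne]
    rw [z0, z1, sub_zero, map_smul, IsBaseChange.equiv_symm_apply, smul_tmul', smul_eq_mul,
      mul_one]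
    simp only [L, LinearMap.comp_apply, LinearMap.rTensor_tmul, LinearEquiv.coe_coe,
      TensorProduct.lid_tmul]
  · intro s η
    show L (F (s • _)) = 0
    have e : G ∘ (fun j => μ (η j)) =
        π ∘ (fun j => ((1 : S) ⊗ₜ η j, (0 : S))) := funext fun j => hGη (η j)
    simp only [map_smul, F, LinearMap.comp_apply, LinearEquiv.coe_coe,
      exteriorPower.map_apply_ιMulti]
    rw [e, hΦ']
    have : (θ₁ ((1 : S) ⊗ₜ[R] d₀) ∘ fun j => ((1 : S) ⊗ₜ η j, (0 : S))) =
        θ₀ (S := S) (M := S ⊗[R] M) ∘ fun j => ((1 : S) ⊗ₜ η j, (0 : S)) := by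
      funext j; simp [θ₁, θ₀]
    rw [this, sub_self, map_zero, smul_zero, map_zero]

variable (p : ℕ) (Λ R : Type u) [CommRing Λ] [CommRing R] [Algebra Λ R] (a : R)

local notation "Sn" => AdjoinRoot (X ^ p - C a : R[X])
local notation "MS" => AdjoinRoot (X ^ p - C a : R[X]) ⊗[R] Ω[R⁄Λ]

/-- The element `1 ⊗ da`. -/
noncomputable abbrev da : MS := 1 ⊗ₜ D Λ R a

/-- The relation. -/
noncomputable abbrev rel : Submodule Sn (MS × Sn) := Submodule.span Sn {(da p Λ R a, 0)}

/-- The model of `Ω_S`. -/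
abbrev N := (MS × Sn) ⧸ rel p Λ R a

lemma exists_derivation [CharP R p] :
    ∃ G : Ω[Sn⁄Λ] →ₗ[Sn] N p Λ R a,
      G (D Λ Sn (AdjoinRoot.root _)) = (rel p Λ R a).mkQ (0, 1) ∧
      ∀ η : Ω[R⁄Λ], G (KaehlerDifferential.map Λ Λ R Sn η) = (rel p Λ R a).mkQ (1 ⊗ₜ η, 0) := by
  let π := (rel p Λ R a).mkQ
  let ι : R →+* TrivSqZeroExt Sn (N p Λ R a) :=
    { toFun := fun r => TrivSqZeroExt.inl (algebraMap R Sn r) +
        TrivSqZeroExt.inr (π (1 ⊗ₜ D Λ R r, 0))
      map_one' := by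
        ext
        · simp
        · simp [← map_zero π, Prod.zero_eq_mk]
      map_mul' := fun r r' => by
        ext
        · simp
        · simp only [TrivSqZeroExt.snd_add, TrivSqZeroExt.snd_inl, TrivSqZeroExt.snd_inr,
            TrivSqZeroExt.snd_mul, TrivSqZeroExt.fst_add, TrivSqZeroExt.fst_inl,
            TrivSqZeroExt.fst_inr, zero_add, add_zero, op_smul_eq_smul, Derivation.leibniz,
            ← map_smul, ← map_add, Prod.smul_mk, Prod.mk_add_mk, smul_zero,
            algebraMap_smul, TensorProduct.tmul_add, TensorProduct.tmul_smul]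
      map_zero' := by
        ext
        · simp
        · simp [← map_zero π, Prod.zero_eq_mk]
      map_add' := fun r r' => by
        ext
        · simp
        · simp only [TrivSqZeroExt.snd_add, TrivSqZeroExt.snd_inl, TrivSqZeroExt.snd_inr, zero_add]
          rw [← map_add π, Prod.mk_add_mk, add_zero, map_add, TensorProduct.tmul_add] }
  set xT : TrivSqZeroExt Sn (N p Λ R a) :=
    TrivSqZeroExt.inl (AdjoinRoot.root _) + TrivSqZeroExt.inr (π (0, 1)) with hxT
  have hroot : (X ^ p - C a : R[X]).eval₂ ι xT = 0 := by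
    rw [eval₂_sub, eval₂_X_pow, eval₂_C, sub_eq_zero]
    ext
    · have h : (AdjoinRoot.root (X ^ p - C a : R[X])) ^ p = algebraMap R Sn a := by
        have := AdjoinRoot.eval₂_root (X ^ p - C a : R[X])
        rw [eval₂_sub, eval₂_X_pow, eval₂_C, sub_eq_zero] at this
        exact this
      simp [ι, hxT, TrivSqZeroExt.fst_pow, h]
    · have hz : π (1 ⊗ₜ D Λ R a, 0) = 0 := by
        rw [← LinearMap.mem_ker, Submodule.ker_mkQ]
        exact Submodule.subset_span rfl
      have hp0 : (p : Sn) = 0 := by rw [← map_natCast (algebraMap R Sn), CharP.cast_eq_zero, map_zero]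
      rw [TrivSqZeroExt.snd_pow]
      simp only [ι, RingHom.coe_mk, MonoidHom.coe_mk, OneHom.coe_mk, TrivSqZeroExt.snd_add,
        TrivSqZeroExt.snd_inl, TrivSqZeroExt.snd_inr, zero_add, hz]
      rw [← Nat.cast_smul_eq_nsmul Sn, hp0, zero_smul]
  let φ : Sn →+* TrivSqZeroExt Sn (N p Λ R a) := AdjoinRoot.lift ι xT hroot
  have hfst : ∀ s, (φ s).fst = s := by
    intro s
    induction s using AdjoinRoot.induction_on with
    | _ f =>
      induction f using Polynomial.induction_on' with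
      | add f g hf hg => rw [map_add, map_add, TrivSqZeroExt.fst_add, hf, hg]
      | monomial n c =>
        simp [φ, AdjoinRoot.lift_mk, eval₂_monomial, ι, hxT, TrivSqZeroExt.fst_pow,
          ← C_mul_X_pow_eq_monomial]
  have hof : ∀ r : R, φ (algebraMap R Sn r) = ι r := fun r => AdjoinRoot.lift_of hroot
  let δ₀ : Sn →ₗ[Λ] N p Λ R a :=
    { toFun := fun s => (φ s).snd
      map_add' := fun s s' => by rw [map_add, TrivSqZeroExt.snd_add]
      map_smul' := fun c s => by
        rw [Algebra.smul_def, map_mul, TrivSqZeroExt.snd_mul, hfst, hfst,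
          IsScalarTower.algebraMap_apply Λ R Sn, hof]
        have : (ι (algebraMap Λ R c)).snd = 0 := by simp [ι, ← map_zero π, Prod.zero_eq_mk]
        rw [this, smul_zero, add_zero, RingHom.id_apply, ← IsScalarTower.algebraMap_apply,
          algebraMap_smul] }
  let δ : Derivation Λ Sn (N p Λ R a) := Derivation.mk' δ₀ fun s s' => by
    show (φ (s * s')).snd = s • (φ s').snd + s' • (φ s).snd
    rw [map_mul, TrivSqZeroExt.snd_mul, hfst, hfst, op_smul_eq_smul]
  refine ⟨δ.liftKaehlerDifferential, ?_, ?_⟩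
  · rw [Derivation.liftKaehlerDifferential_comp_D]
    show (φ (AdjoinRoot.root _)).snd = _
    simp [φ, hxT, π]
  · intro η
    have hη : η ∈ Submodule.span R (Set.range (D Λ R)) := by
      rw [KaehlerDifferential.span_range_derivation]; trivial
    induction hη using Submodule.span_induction with
    | mem x hx =>
      obtain ⟨r, rfl⟩ := hx
      rw [KaehlerDifferential.map_D, Derivation.liftKaehlerDifferential_comp_D]
      show (φ (algebraMap R Sn r)).snd = _
      rw [hof]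
      simp [ι, π]
    | zero =>
      have e0 : ((1 : Sn) ⊗ₜ[R] (0 : Ω[R⁄Λ]), (0 : Sn)) = (0 : MS × Sn) := by
        rw [tmul_zero]; rfl
      rw [LinearMap.map_zero (KaehlerDifferential.map Λ Λ R Sn), LinearMap.map_zero, e0,
        LinearMap.map_zero]
    | add x y _ _ hx hy =>
      have e1 : ((1 : Sn) ⊗ₜ[R] (x + y), (0 : Sn)) =
          ((1 : Sn) ⊗ₜ[R] x, (0 : Sn)) + ((1 : Sn) ⊗ₜ[R] y, (0 : Sn)) := by
        rw [Prod.mk_add_mk, add_zero, tmul_add]
      rw [LinearMap.map_add (KaehlerDifferential.map Λ Λ R Sn), LinearMap.map_add, hx, hy, e1,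
        LinearMap.map_add]
    | smul r x _ hx =>
      rw [map_smul, ← algebraMap_smul Sn r (KaehlerDifferential.map Λ Λ R Sn x), map_smul, hx,
        ← map_smul, Prod.smul_mk, smul_zero, algebraMap_smul, tmul_smul]

theorem exists_trace [Fact p.Prime] [CharP R p] (t : ℕ) :
    ∃ Tr : (⋀[Sn]^(t + 1) (Ω[Sn⁄Λ])) →+ (⋀[R]^(t + 1) (Ω[R⁄Λ])),
      (∀ (r : R) (ω : ⋀[Sn]^(t + 1) (Ω[Sn⁄Λ])),
        Tr (algebraMap R Sn r • ω) = r • Tr ω) ∧
      (∀ (η : Fin t → Ω[R⁄Λ]) (i : ℕ), i + 2 ≤ p →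
        Tr (exteriorPower.ιMulti _ (t + 1) (Fin.snoc (fun j => KaehlerDifferential.map Λ Λ R Sn (η j))
          (AdjoinRoot.root (X ^ p - C a) ^ i • D Λ _ (AdjoinRoot.root (X ^ p - C a))))) = 0) ∧
      (∀ (η : Fin t → Ω[R⁄Λ]),
        Tr (exteriorPower.ιMulti _ (t + 1) (Fin.snoc (fun j => KaehlerDifferential.map Λ Λ R Sn (η j))
          (AdjoinRoot.root (X ^ p - C a) ^ (p - 1) • D Λ _ (AdjoinRoot.root (X ^ p - C a))))) =
          exteriorPower.ιMulti R (t + 1) (Fin.snoc η (D Λ R a))) ∧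
      (∀ (s : Sn) (η : Fin (t + 1) → Ω[R⁄Λ]),
        Tr (s • exteriorPower.ιMulti _ (t + 1) (fun j => KaehlerDifferential.map Λ Λ R Sn (η j))) = 0) := by
  haveI : Nontrivial R := CharP.nontrivial_of_char_ne_one (v := p) (Fact.out : p.Prime).ne_one
  have hp : 0 < p := (Fact.out : p.Prime).pos
  obtain ⟨G, hGx, hGη⟩ := exists_derivation p Λ R a
  have hmonic : (X ^ p - C a : R[X]).Monic := monic_X_pow_sub_C a hp.ne'
  let cf : Sn →ₗ[R] R := (Polynomial.lcoeff R (p - 1)).comp (AdjoinRoot.modByMonicHom hmonic)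
  have hcf : ∀ i, i < p → cf (AdjoinRoot.root _ ^ i) = if i = p - 1 then 1 else 0 := by
    intro i hi
    simp only [cf, LinearMap.comp_apply, ← AdjoinRoot.mk_X, ← map_pow,
      AdjoinRoot.modByMonicHom_mk, Polynomial.lcoeff_apply]
    rw [(Polynomial.modByMonic_eq_self_iff hmonic).2, coeff_X_pow]
    · simp [eq_comm]
    · rw [degree_X_pow, degree_X_pow_sub_C hp]; exact_mod_cast hi
  obtain ⟨Tr, h1, h2, h3⟩ := exists_trace_aux (R := R) (S := Sn) (M := Ω[R⁄Λ]) (Om := Ω[Sn⁄Λ]) (D Λ R a) (D Λ Sn (AdjoinRoot.root _))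
    (KaehlerDifferential.map Λ Λ R Sn) cf t G hGx hGη
  refine ⟨Tr, h1, fun η i hi => ?_, fun η => ?_, h3⟩
  · rw [h2, hcf i (by omega), if_neg (by omega), zero_smul]
  · rw [h2, hcf (p - 1) (by omega), if_pos rfl, one_smul]

end Groth.Agent.PthRootTrace
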